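import Mathlib.MeasureTheory.Group.Integral
import Mathlib.MeasureTheory.Constructions.Pi
import Mathlib.MeasureTheory.Integral.Prod
import Mathlib.MeasureTheory.Constructions.BorelSpace.Metrizable
import Mathlib.MeasureTheory.Measure.Haar.Basic
import Mathlib.Topology.ContinuousMap.StoneWeierstrass
import Mathlib.Topology.UrysohnsLemma
import Mathlib.Topology.CompactOpen

/-! Symmetric cocycles on a compact group are deviations of their integrals. -/

noncomputable section

universe u

open MeasureTheory Topology

namespace Groth.Agent.PtDeg98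

variable {G : Type u} [TopologicalSpace G] [CompactSpace G] [T2Space G]
  [MeasurableSpace G] [BorelSpace G]

/-- A continuous function on a finite power of a compact Hausdorff space is measurable for the
product σ-algebra. -/
theorem measurable_of_continuous_pi {ι : Type*} [Fintype ι] {f : (ι → G) → ℝ} (hf : Continuous f) :
    Measurable f := by
  let A : Subalgebra ℝ C(ι → G, ℝ) :=
    { carrier := {g | Measurable g}
      mul_mem' := fun {a b} ha hb => show Measurable fun x => a x * b x from Measurable.mul ha hb
      one_mem' := show Measurable fun _ : ι → G => (1 : ℝ) from measurable_const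
      add_mem' := fun {a b} ha hb => show Measurable fun x => a x + b x from Measurable.add ha hb
      zero_mem' := show Measurable fun _ : ι → G => (0 : ℝ) from measurable_const
      algebraMap_mem' := fun r => show Measurable fun _ : ι → G => algebraMap ℝ ℝ r from measurable_const }
  have hsep : A.SeparatesPoints := by
    intro x y hxy
    obtain ⟨i, hi⟩ := Function.ne_iff.1 hxy
    obtain ⟨g, h0, h1, -⟩ := exists_continuous_zero_one_of_isClosed (isClosed_singleton (x := x i))
      (isClosed_singleton (x := y i)) (Set.disjoint_singleton.2 hi)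
    refine ⟨_, ⟨g.comp ⟨fun z => z i, continuous_apply i⟩, ?_, rfl⟩, ?_⟩
    · exact g.continuous.measurable.comp (measurable_pi_apply i)
    · show g (x i) ≠ g (y i)
      rw [h0 rfl, h1 rfl]
      exact zero_ne_one
  have hm : (⟨f, hf⟩ : C(ι → G, ℝ)) ∈ A.topologicalClosure := by
    rw [ContinuousMap.subalgebra_topologicalClosure_eq_top_of_separatesPoints A hsep]
    trivial
  rw [← SetLike.mem_coe, Subalgebra.topologicalClosure_coe, mem_closure_iff_seq_limit] at hm
  obtain ⟨s, hs, hlim⟩ := hm
  refine measurable_of_tendsto_metrizable (f := fun n => (s n : (ι → G) → ℝ)) hs ?_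
  rw [tendsto_pi_nhds]
  exact fun x => ((continuous_eval_const (F := C(ι → G, ℝ)) x).tendsto _).comp hlim

variable (μ : Measure G) [IsProbabilityMeasure μ]

theorem integrable_pi {m : ℕ} {f : (Fin m → G) → ℝ} (hf : Continuous f) :
    Integrable f (Measure.pi fun _ : Fin m => μ) := by
  refine Integrable.of_bound (measurable_of_continuous_pi hf).aestronglyMeasurable
    ‖(⟨f, hf⟩ : C(Fin m → G, ℝ))‖ (Filter.Eventually.of_forall fun x => ?_)
  exact ContinuousMap.norm_coe_le_norm (⟨f, hf⟩ : C(Fin m → G, ℝ)) x

theorem integrable_one {f : G → ℝ} (hf : Continuous f) : Integrable f μ := by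
  refine Integrable.of_bound hf.measurable.aestronglyMeasurable
    ‖(⟨f, hf⟩ : C(G, ℝ))‖ (Filter.Eventually.of_forall fun x => ?_)
  exact ContinuousMap.norm_coe_le_norm (⟨f, hf⟩ : C(G, ℝ)) x

theorem continuous_integral_right {X : Type*} [TopologicalSpace X] {m : ℕ}
    {f : X → (Fin m → G) → ℝ} (hf : Continuous (Function.uncurry f)) :
    Continuous fun x => ∫ y, f x y ∂(Measure.pi fun _ : Fin m => μ) := by
  let F : C(X, C(Fin m → G, ℝ)) := ContinuousMap.curry ⟨Function.uncurry f, hf⟩
  have hI : Continuous fun h : C(Fin m → G, ℝ) => ∫ y, h y ∂(Measure.pi fun _ : Fin m => μ) := by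
    refine (LipschitzWith.of_dist_le_mul (K := 1) fun a b => ?_).continuous
    rw [NNReal.coe_one, one_mul, dist_eq_norm, dist_eq_norm,
      ← integral_sub (integrable_pi μ a.continuous) (integrable_pi μ b.continuous)]
    refine (norm_integral_le_of_norm_le_const (C := ‖a - b‖)
      (Filter.Eventually.of_forall fun x => ?_)).trans ?_
    · exact ContinuousMap.norm_coe_le_norm (a - b) x
    · simp
  exact hI.comp F.continuous

theorem continuous_integral_one {X : Type*} [TopologicalSpace X]
    {f : X → G → ℝ} (hf : Continuous (Function.uncurry f)) :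
    Continuous fun x => ∫ y, f x y ∂μ := by
  let F : C(X, C(G, ℝ)) := ContinuousMap.curry ⟨Function.uncurry f, hf⟩
  have hI : Continuous fun h : C(G, ℝ) => ∫ y, h y ∂μ := by
    refine (LipschitzWith.of_dist_le_mul (K := 1) fun a b => ?_).continuous
    rw [NNReal.coe_one, one_mul, dist_eq_norm, dist_eq_norm,
      ← integral_sub (integrable_one μ a.continuous) (integrable_one μ b.continuous)]
    refine (norm_integral_le_of_norm_le_const (C := ‖a - b‖)
      (Filter.Eventually.of_forall fun x => ?_)).trans ?_
    · exact ContinuousMap.norm_coe_le_norm (a - b) x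
    · simp
  exact hI.comp F.continuous

/-- Fubini for the first coordinate. -/
theorem integral_cons {m : ℕ} {f : (Fin (m + 1) → G) → ℝ} (hf : Continuous f) :
    ∫ u, f u ∂(Measure.pi fun _ : Fin (m + 1) => μ) =
      ∫ y, ∫ a, f (Fin.cons a y) ∂μ ∂(Measure.pi fun _ : Fin m => μ) := by
  have hmp := measurePreserving_piFinSuccAbove (fun _ : Fin (m + 1) => μ) 0
  have hint : Integrable (fun p : G × (Fin m → G) =>
      f ((MeasurableEquiv.piFinSuccAbove (fun _ : Fin (m + 1) => G) 0).symm p))
      (μ.prod (Measure.pi fun _ : Fin m => μ)) := by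
    exact (hmp.symm _).integrable_comp_of_integrable (integrable_pi μ hf)
  rw [← (hmp.symm _).integral_comp', integral_prod_symm _ hint]
  refine integral_congr_ae (Filter.Eventually.of_forall fun y => ?_)
  refine integral_congr_ae (Filter.Eventually.of_forall fun a => ?_)
  show f ((MeasurableEquiv.piFinSuccAbove (fun _ : Fin (m + 1) => G) 0).symm (a, y)) = _
  simp [MeasurableEquiv.piFinSuccAbove]
  rfl

variable [AddCommGroup G] [IsTopologicalAddGroup G]

/-- The `n`-th deviation. -/
def dev (n : ℕ) (φ : G → ℝ) (x : Fin n → G) : ℝ :=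
  ∑ I ∈ ((Finset.univ : Finset (Fin n)).powerset.erase ∅), (-1 : ℝ) ^ (n + I.card) * φ (∑ i ∈ I, x i)

/-- The iterated difference at zero. -/
def iter (n : ℕ) (φ : G → ℝ) (x : Fin n → G) : ℝ :=
  ∑ I ∈ (Finset.univ : Finset (Fin n)).powerset, (-1 : ℝ) ^ (n + I.card) * φ (∑ i ∈ I, x i)

omit [TopologicalSpace G] [CompactSpace G] [T2Space G] [MeasurableSpace G] [BorelSpace G]
  [IsTopologicalAddGroup G] in
theorem dev_eq (n : ℕ) (φ : G → ℝ) (x : Fin n → G) :
    dev n φ x = iter n φ x - (-1) ^ n * φ 0 := by
  rw [dev, iter, ← Finset.add_sum_erase _ _ (Finset.empty_mem_powerset _)]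
  simp

omit [TopologicalSpace G] [CompactSpace G] [T2Space G] [MeasurableSpace G] [BorelSpace G]
  [IsTopologicalAddGroup G] in
theorem iter_cons (n : ℕ) (φ : G → ℝ) (a : G) (y : Fin n → G) :
    iter (n + 1) φ (Fin.cons a y) = iter n (fun g => φ (a + g)) y - iter n φ y := by
  classical
  have e0 : (Finset.univ : Finset (Fin (n + 1))) =
      insert 0 ((Finset.univ : Finset (Fin n)).map (Fin.succEmb n)) := by
    ext i
    simp only [Finset.mem_univ, Finset.mem_insert, Finset.mem_map, true_and, true_iff,
      Fin.coe_succEmb]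
    exact (Fin.eq_zero_or_eq_succ i).imp id fun ⟨j, hj⟩ => ⟨j, hj.symm⟩
  have h0 : ∀ J : Finset (Fin n), (0 : Fin (n + 1)) ∉ J.map (Fin.succEmb n) := fun J h => by
    obtain ⟨j, -, hj⟩ := Finset.mem_map.1 h
    exact Fin.succ_ne_zero j hj
  have e1 : ∀ F : Finset (Fin (n + 1)) → ℝ,
      ∑ I ∈ ((Finset.univ : Finset (Fin n)).map (Fin.succEmb n)).powerset, F I =
        ∑ J ∈ (Finset.univ : Finset (Fin n)).powerset, F (J.map (Fin.succEmb n)) := fun F => by
    symm
    refine Finset.sum_bij (fun J _ => J.map (Fin.succEmb n)) (fun J _ => ?_)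
      (fun J _ J' _ e => Finset.map_injective _ e) (fun I hI => ?_) (fun J _ => rfl)
    · exact Finset.mem_powerset.2 (Finset.map_subset_map.2 (Finset.subset_univ J))
    · obtain ⟨J, -, rfl⟩ := Finset.subset_map_iff.1 (Finset.mem_powerset.1 hI)
      exact ⟨J, Finset.mem_powerset.2 (Finset.subset_univ J), rfl⟩
  have eA : ∀ J : Finset (Fin n),
      (-1 : ℝ) ^ (n + 1 + (J.map (Fin.succEmb n)).card) *
        φ (∑ i ∈ J.map (Fin.succEmb n), (Fin.cons a y : Fin (n + 1) → G) i) =
      -((-1 : ℝ) ^ (n + J.card) * φ (∑ i ∈ J, y i)) := fun J => by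
    rw [Finset.card_map, Finset.sum_map,
      show n + 1 + J.card = (n + J.card) + 1 by omega, pow_succ]
    simp only [Fin.coe_succEmb, Fin.cons_succ]
    ring
  have eB : ∀ J : Finset (Fin n),
      (-1 : ℝ) ^ (n + 1 + (insert (0 : Fin (n + 1)) (J.map (Fin.succEmb n))).card) *
        φ (∑ i ∈ insert (0 : Fin (n + 1)) (J.map (Fin.succEmb n)),
          (Fin.cons a y : Fin (n + 1) → G) i) =
      (-1 : ℝ) ^ (n + J.card) * φ (a + ∑ i ∈ J, y i) := fun J => by
    rw [Finset.card_insert_of_notMem (h0 J), Finset.sum_insert (h0 J), Finset.card_map,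
      Finset.sum_map, show n + 1 + (J.card + 1) = (n + J.card) + 2 by omega, pow_add]
    simp only [Fin.coe_succEmb, Fin.cons_succ, Fin.cons_zero]
    ring
  rw [iter, e0, Finset.sum_powerset_insert (h0 Finset.univ), e1, e1]
  simp only [eA, eB, Finset.sum_neg_distrib]
  unfold iter
  ring

omit [TopologicalSpace G] [CompactSpace G] [T2Space G] [MeasurableSpace G] [BorelSpace G]
  [IsTopologicalAddGroup G] in
theorem dev_cons_cons (n : ℕ) (φ : G → ℝ) (a b : G) (y : Fin n → G) :
    dev (n + 2) φ (Fin.cons a (Fin.cons b y)) =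
      -(dev (n + 1) φ (Fin.cons a y) + dev (n + 1) φ (Fin.cons b y) -
        dev (n + 1) φ (Fin.cons (a + b) y)) := by
  simp only [dev_eq, iter_cons, pow_succ, add_assoc]
  ring

omit [TopologicalSpace G] [CompactSpace G] [T2Space G] [MeasurableSpace G] [BorelSpace G]
  [IsTopologicalAddGroup G] in
theorem dev_neg (n : ℕ) (φ : G → ℝ) (x : Fin n → G) : dev n (fun g => -φ g) x = -dev n φ x := by
  simp only [dev, mul_neg, Finset.sum_neg_distrib]

theorem continuous_dev (n : ℕ) {φ : G → ℝ} (hφ : Continuous φ) : Continuous (dev n φ) := by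
  unfold dev
  exact continuous_finsetSum _ fun I _ => continuous_const.mul
    (hφ.comp (continuous_finsetSum _ fun i _ => continuous_apply i))

/-- The cocycle condition in every pair of variables. -/
def IsCocycle {n : ℕ} (ψ : (Fin n → G) → ℝ) : Prop :=
  ∀ i j : Fin n, i ≠ j → ∀ (x : Fin n → G) (a b c : G),
    ψ (Function.update (Function.update x i (a + b)) j c) + ψ (Function.update (Function.update x i a) j b) =
      ψ (Function.update (Function.update x i a) j (b + c)) + ψ (Function.update (Function.update x i b) j c)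

variable [μ.IsAddHaarMeasure]

theorem eq_dev_integral : ∀ (m : ℕ) (ψ : (Fin (m + 1) → G) → ℝ), Continuous ψ → IsCocycle ψ →
    ∀ x, ψ x = dev (m + 1)
      (fun g => (-1 : ℝ) ^ m * ∫ u, ψ (Fin.cons g u) ∂(Measure.pi fun _ : Fin m => μ)) x := by
  intro m
  induction m with
  | zero =>
    intro ψ hψ _ x
    have hne : ((Finset.univ : Finset (Fin 1)).powerset.erase ∅) = {{0}} := by decide
    rw [dev, hne, Finset.sum_singleton]
    simp only [Finset.card_singleton, Finset.sum_singleton, pow_zero, one_mul]
    have hx : ∀ u : Fin 0 → G, (Fin.cons (x 0) u : Fin 1 → G) = x := fun u => funext fun i => by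
      rw [Fin.eq_zero i]; rfl
    simp only [hx]
    norm_num
  | succ m ih =>
    intro ψ hψ hc x
    obtain ⟨a, w, rfl⟩ : ∃ a w, x = Fin.cons a w := ⟨x 0, Fin.tail x, (Fin.cons_self_tail x).symm⟩
    obtain ⟨b, y, rfl⟩ : ∃ b y, w = Fin.cons b y := ⟨w 0, Fin.tail w, (Fin.cons_self_tail w).symm⟩
    have hins : ∀ (g c : G) (y : Fin m → G),
        (1 : Fin (m + 2)).insertNth c (Fin.cons g y : Fin (m + 1) → G) =
          (Fin.cons g (Fin.cons c y) : Fin (m + 2) → G) := fun g c y => by
      rw [Fin.insertNth_eq_iff]
      refine ⟨rfl, funext fun i => ?_⟩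
      refine Fin.cases ?_ (fun j => ?_) i
      · rfl
      · show _ = (Fin.cons g (Fin.cons c y) : Fin (m + 2) → G) (Fin.succAbove 1 j.succ)
        rw [show (1 : Fin (m + 2)) = Fin.succ 0 from rfl, Fin.succ_succAbove_succ,
          Fin.succAbove_zero]
        rfl
    let F : (Fin (m + 1) → G) → ℝ := fun z => ∫ c, ψ ((1 : Fin (m + 2)).insertNth c z) ∂μ
    have hcont2 : Continuous (Function.uncurry fun (z : Fin (m + 1) → G) (c : G) =>
        ψ ((1 : Fin (m + 2)).insertNth c z)) :=
      hψ.comp (Continuous.finInsertNth (A := fun _ => G) 1 continuous_snd continuous_fst)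
    have hF : Continuous F := continuous_integral_one μ hcont2
    have hint : ∀ z : Fin (m + 1) → G,
        Integrable (fun c => ψ ((1 : Fin (m + 2)).insertNth c z)) μ :=
      fun z => integrable_one μ (hcont2.comp (continuous_const.prodMk continuous_id))
    have hFc : IsCocycle F := by
      intro i j hij z p q r
      simp only [F]
      rw [← integral_add (hint _) (hint _), ← integral_add (hint _) (hint _)]
      refine integral_congr_ae (Filter.Eventually.of_forall fun c => ?_)
      simp only [Fin.insertNth_update]
      exact hc _ _ (fun e => hij (Fin.succAbove_right_injective e)) _ p q r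
    -- the integrated cocycle relation
    have key : ψ (Fin.cons a (Fin.cons b y)) =
        F (Fin.cons a y) + F (Fin.cons b y) - F (Fin.cons (a + b) y) := by
      have hone : ∀ g : G, Continuous fun c => ψ (Fin.cons g (Fin.cons c y)) := fun g =>
        hψ.comp (Continuous.finCons (A := fun _ => G) continuous_const
          (Continuous.finCons (A := fun _ => G) continuous_id continuous_const))
      have hrel : ∀ c, ψ (Fin.cons (a + b) (Fin.cons c y)) + ψ (Fin.cons a (Fin.cons b y)) =
          ψ (Fin.cons a (Fin.cons (b + c) y)) + ψ (Fin.cons b (Fin.cons c y)) := by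
        intro c
        have h := hc 0 (Fin.succ 0) (Fin.succ_ne_zero 0).symm
          (Fin.cons a (Fin.cons b y)) a b c
        simpa only [Fin.update_cons_zero, ← Fin.cons_update] using h
      have htr : Continuous fun c => ψ (Fin.cons a (Fin.cons (b + c) y)) :=
        (hone a).comp (continuous_add_left b)
      have h := integral_congr_ae (μ := μ) (Filter.Eventually.of_forall hrel)
      rw [integral_add (integrable_one μ (hone _)) (integrable_const _), integral_const,
        probReal_univ, one_smul,
        integral_add (integrable_one μ htr)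
          (integrable_one μ (hone b)),
        integral_add_left_eq_self (fun c => ψ (Fin.cons a (Fin.cons c y))) b] at h
      simp only [F, hins]
      linarith
    -- the iterated integral
    have hT : ∀ g, ∫ u, ψ (Fin.cons g u) ∂(Measure.pi fun _ : Fin (m + 1) => μ) =
        ∫ v, F (Fin.cons g v) ∂(Measure.pi fun _ : Fin m => μ) := fun g => by
      have hg : Continuous fun u : Fin (m + 1) → G => ψ (Fin.cons g u) :=
        hψ.comp (Continuous.finCons (A := fun _ => G) continuous_const continuous_id)
      rw [integral_cons μ hg]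
      simp only [F, hins]
    rw [key, ih F hF hFc, ih F hF hFc, ih F hF hFc, dev_cons_cons]
    simp only [← dev_neg, hT, pow_succ, mul_neg_one, neg_mul]
    rw [show ∀ p q r : ℝ, -(p + q - r) = -p + -q - -r from fun p q r => by ring]
    simp only [← dev_neg, neg_neg]

/-- Integrating a deviation recovers the function. -/
theorem integral_dev : ∀ (m : ℕ) (φ : G → ℝ), Continuous φ → ∀ g,
    ∫ u, dev (m + 1) φ (Fin.cons g u) ∂(Measure.pi fun _ : Fin m => μ) = (-1 : ℝ) ^ m * φ g := by
  intro m
  induction m with
  | zero =>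
    intro φ _ g
    have hne : ((Finset.univ : Finset (Fin 1)).powerset.erase ∅) = {{0}} := by decide
    simp only [dev, hne, Finset.sum_singleton, Finset.card_singleton, Fin.cons_zero]
    simp
  | succ m ih =>
    intro φ hφ g
    have hc : Continuous fun u : Fin (m + 1) → G => dev (m + 2) φ (Fin.cons g u) :=
      (continuous_dev _ hφ).comp (Continuous.finCons (A := fun _ => G) continuous_const continuous_id)
    rw [integral_cons μ hc, pow_succ, mul_comm _ (-1 : ℝ), mul_assoc, ← ih φ hφ g, neg_one_mul,
      ← integral_neg]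
    refine integral_congr_ae (Filter.Eventually.of_forall fun v => ?_)
    have hone : Continuous fun b : G => dev (m + 1) φ (Fin.cons b v) :=
      (continuous_dev _ hφ).comp (Continuous.finCons (A := fun _ => G) continuous_id continuous_const)
    have h2 : Continuous fun b : G => dev (m + 1) φ (Fin.cons (g + b) v) :=
      hone.comp (continuous_add_left g)
    dsimp only
    simp only [dev_cons_cons]
    have hsum : Integrable (fun b : G => dev (m + 1) φ (Fin.cons g v) + dev (m + 1) φ (Fin.cons b v)) μ :=
      (integrable_const _).add (integrable_one μ hone)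
    rw [integral_neg, neg_inj, integral_sub hsum (integrable_one μ h2), integral_add (integrable_const _) (integrable_one μ hone),
      integral_const, probReal_univ, one_smul,
      integral_add_left_eq_self (fun b => dev (m + 1) φ (Fin.cons b v)) g, add_sub_cancel_right]

end Groth.Agent.PtDeg98
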